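import Cfsg.Agent.H15.MT.B.C0

/-! Generated by tools/h15/mt/mt.py. -/

set_option maxRecDepth 100000
set_option maxHeartbeats 0

namespace H15.MT
open scoped H19
open H15.NS H15.TG H16 H0.TR
open scoped commutatorElement

theorem y1 : ∀ k < 9, ∀ i < 24, (permEnt P (nth 0 iv) (nat_lit 24)) k i = 0 := allZ2_sound y1_a
theorem y2 : ∀ k < 8, ∀ i < 24, (matEnt H15.MM12.P P) k i = 0 := allZ2_sound y2_a
theorem y3 : ∀ k < 8, ∀ i < 24, (extEnt P (nat_lit 8) xW) k i = 0 := allZ2_sound y3_a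
theorem yl_act {G Ω : Type*} [Group G] [MulAction G Ω] {g : ℕ → G} {pt : ℕ → Ω}
    (M : Act g pt P 24 9) : Act (wds g yl_W) pt yl_P 24 9 :=
  M.wds yl_lt _
theorem yll0_e : ∀ i < 23, (dent yll0 yl_P (nat_lit 24)) i = 0 := allZ_sound0 yll0_e_0
theorem yll0_ok : DOK yll0 yl_P 24 := ⟨yll0_h, yll0_e⟩
theorem yll1_e : ∀ i < 10, (dent yll1 yl_P (nat_lit 24)) i = 0 := allZ_sound0 yll1_e_0
theorem yll1_ok : DOK yll1 yl_P 24 := ⟨yll1_h, yll1_e⟩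
theorem yll2_e : ∀ i < 9, (dent yll2 yl_P (nat_lit 24)) i = 0 := allZ_sound0 yll2_e_0
theorem yll2_ok : DOK yll2 yl_P 24 := ⟨yll2_h, yll2_e⟩
theorem yll3_e : ∀ i < 8, (dent yll3 yl_P (nat_lit 24)) i = 0 := allZ_sound0 yll3_e_0
theorem yll3_ok : DOK yll3 yl_P 24 := ⟨yll3_h, yll3_e⟩
theorem yll4_e : ∀ i < 7, (dent yll4 yl_P (nat_lit 24)) i = 0 := allZ_sound0 yll4_e_0
theorem yll4_ok : DOK yll4 yl_P 24 := ⟨yll4_h, yll4_e⟩
theorem yl_low {G Ω : Type*} [Group G] [MulAction G Ω] {g : ℕ → G} {pt : ℕ → Ω}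
    (M : Act g pt P 24 9) : SLow (gi (wds g yl_W)) pt 24 [yll0, yll1, yll2, yll3, yll4] :=
  (((((SLow.nil).cons yll4_ok (yl_act M) yl_f4).cons yll3_ok (yl_act M) yl_f3).cons yll2_ok (yl_act M) yl_f2).cons yll1_ok (yl_act M) yl_f1).cons yll0_ok (yl_act M) yl_f0
theorem zzc_act {G Ω : Type*} [Group G] [MulAction G Ω] {g : ℕ → G} {pt : ℕ → Ω}
    (M : Md g pt P 24 9 B 190080) : Act (wds g zzc_W) pt zzc_P 24 1 :=
  M.wact zzc_lt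
theorem zzth_act {G Ω : Type*} [Group G] [MulAction G Ω] {g : ℕ → G} {pt : ℕ → Ω}
    (M : Md g pt P 24 9 B 190080) : Act (wds g zzth_W) pt zzth_P 24 14 :=
  M.wact zzth_lt
theorem zztl0_e : ∀ i < 23, (dent zztl0 zzth_P (nat_lit 24)) i = 0 := allZ_sound0 zztl0_e_0
theorem zztl0_ok : DOK zztl0 zzth_P 24 := ⟨zztl0_h, zztl0_e⟩
theorem zztl1_e : ∀ i < 10, (dent zztl1 zzth_P (nat_lit 24)) i = 0 := allZ_sound0 zztl1_e_0
theorem zztl1_ok : DOK zztl1 zzth_P 24 := ⟨zztl1_h, zztl1_e⟩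
theorem zztl2_e : ∀ i < 9, (dent zztl2 zzth_P (nat_lit 24)) i = 0 := allZ_sound0 zztl2_e_0
theorem zztl2_ok : DOK zztl2 zzth_P 24 := ⟨zztl2_h, zztl2_e⟩
theorem zztl3_e : ∀ i < 8, (dent zztl3 zzth_P (nat_lit 24)) i = 0 := allZ_sound0 zztl3_e_0
theorem zztl3_ok : DOK zztl3 zzth_P 24 := ⟨zztl3_h, zztl3_e⟩
theorem zztl4_e : ∀ i < 3, (dent zztl4 zzth_P (nat_lit 24)) i = 0 := allZ_sound0 zztl4_e_0
theorem zztl4_ok : DOK zztl4 zzth_P 24 := ⟨zztl4_h, zztl4_e⟩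
theorem zztl5_e : ∀ i < 1, (dent zztl5 zzth_P (nat_lit 24)) i = 0 := allZ_sound0 zztl5_e_0
theorem zztl5_ok : DOK zztl5 zzth_P 24 := ⟨zztl5_h, zztl5_e⟩
theorem zzt_low {G Ω : Type*} [Group G] [MulAction G Ω] {g : ℕ → G} {pt : ℕ → Ω}
    (M : Md g pt P 24 9 B 190080) : SLow (gi (wds g zzth_W)) pt 24 [zztl0, zztl1, zztl2, zztl3, zztl4, zztl5] :=
  ((((((SLow.nil).cons zztl5_ok (zzth_act M) zzt_f5).cons zztl4_ok (zzth_act M) zzt_f4).cons zztl3_ok (zzth_act M) zzt_f3).cons zztl2_ok (zzth_act M) zzt_f2).cons zztl1_ok (zzth_act M) zzt_f1).cons zztl0_ok (zzth_act M) zzt_f0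
theorem zzt_S0 {G Ω : Type*} [Group G] [MulAction G Ω] {g : ℕ → G} {pt : ℕ → Ω}
    (M : Md g pt P 24 9 B 190080) : Stage ⊤ (wds g zzth_W) pt 24 [zztl0, zztl1, zztl2, zztl3, zztl4, zztl5] [] :=
  M.stage (zzt_low M) zzt_c
theorem zzt_S1 {G Ω : Type*} [Group G] [MulAction G Ω] {g : ℕ → G} {pt : ℕ → Ω}
    (M : Md g pt P 24 9 B 190080) : Stage ⊤ (wds g zzth_W) pt 24 [zztl1, zztl2, zztl3, zztl4, zztl5] [zztl0.Pt 0] :=
  (zzt_S0 M).next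
theorem zzt_S2 {G Ω : Type*} [Group G] [MulAction G Ω] {g : ℕ → G} {pt : ℕ → Ω}
    (M : Md g pt P 24 9 B 190080) : Stage ⊤ (wds g zzth_W) pt 24 [zztl2, zztl3, zztl4, zztl5] [zztl1.Pt 0, zztl0.Pt 0] :=
  (zzt_S1 M).next
theorem zzt_S3 {G Ω : Type*} [Group G] [MulAction G Ω] {g : ℕ → G} {pt : ℕ → Ω}
    (M : Md g pt P 24 9 B 190080) : Stage ⊤ (wds g zzth_W) pt 24 [zztl3, zztl4, zztl5] [zztl2.Pt 0, zztl1.Pt 0, zztl0.Pt 0] :=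
  (zzt_S2 M).next
theorem zzt_S4 {G Ω : Type*} [Group G] [MulAction G Ω] {g : ℕ → G} {pt : ℕ → Ω}
    (M : Md g pt P 24 9 B 190080) : Stage ⊤ (wds g zzth_W) pt 24 [zztl4, zztl5] [zztl3.Pt 0, zztl2.Pt 0, zztl1.Pt 0, zztl0.Pt 0] :=
  (zzt_S3 M).next
theorem zzt_S5 {G Ω : Type*} [Group G] [MulAction G Ω] {g : ℕ → G} {pt : ℕ → Ω}
    (M : Md g pt P 24 9 B 190080) : Stage ⊤ (wds g zzth_W) pt 24 [zztl5] [zztl4.Pt 0, zztl3.Pt 0, zztl2.Pt 0, zztl1.Pt 0, zztl0.Pt 0] :=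
  (zzt_S4 M).next
theorem zzt_S6 {G Ω : Type*} [Group G] [MulAction G Ω] {g : ℕ → G} {pt : ℕ → Ω}
    (M : Md g pt P 24 9 B 190080) : Stage ⊤ (wds g zzth_W) pt 24 [] [zztl5.Pt 0, zztl4.Pt 0, zztl3.Pt 0, zztl2.Pt 0, zztl1.Pt 0, zztl0.Pt 0] :=
  (zzt_S5 M).next
theorem zze_act {G Ω : Type*} [Group G] [MulAction G Ω] {g : ℕ → G} {pt : ℕ → Ω}
    (M : Md g pt P 24 9 B 190080) : Act (wds g zze_W) pt zze_P 24 5 :=
  M.wact zze_lt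
theorem zzc5_e : ∀ i < 1, (dent zzc5 zze_P (nat_lit 24)) i = 0 := allZ_sound0 zzc5_e_0
theorem zzc5_ok : DOK zzc5 zze_P 24 := ⟨zzc5_h, zzc5_e⟩
theorem zztn0_1 : ∀ i < 2, (zztn0.ent P zzth_P zzc_P zzc_P zze_P (nat_lit 9) (nat_lit 1) B zztl5 [] (memO zzc5)) i = 0 := allZ_sound0 zztn0_1_0
theorem zztn0_t {G Ω : Type*} [Group G] [MulAction G Ω] {g : ℕ → G} {pt : ℕ → Ω}
    (M : Md g pt P 24 9 B 190080) : TrO (gen (wds g zzth_W) zztl5.K) (wds g zzc_W) (wds g zzc_W) 1 pt 24 (zztl5.Pt 0) (memO zzc5) :=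
  node M (zzt_S5 M) (zzth_act M) (zzc_act M) (zzc_act M) zztn0 ((zze_act M).mono (by decide)) (fun _ _ => trivial) zztn0_0 zztn0_1 (List.forall_mem_nil _)
theorem zzc4_e : ∀ i < 1, (dent zzc4 zze_P (nat_lit 24)) i = 0 := allZ_sound0 zzc4_e_0
theorem zzc4_ok : DOK zzc4 zze_P 24 := ⟨zzc4_h, zzc4_e⟩
theorem zztn1y22_act {G Ω : Type*} [Group G] [MulAction G Ω] {g : ℕ → G} {pt : ℕ → Ω}
    (M : Md g pt P 24 9 B 190080) : Act (wds g zztn1y22_W) pt zztn1y22_P 24 1 :=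
  M.wact zztn1y22_lt
theorem zztr2k_act {G Ω : Type*} [Group G] [MulAction G Ω] {g : ℕ → G} {pt : ℕ → Ω}
    (M : Md g pt P 24 9 B 190080) : Act (wds g zztr2k_W) pt zztr2k_P 24 2 :=
  M.wact zztr2k_lt
theorem zztn2_1 : ∀ i < 2, (zztn2.ent P zzth_P zzc_P zztn1y22_P zztr2k_P (nat_lit 9) (nat_lit 1) B zztl5 [] (fun _ => nat_lit 1)) i = 0 := allZ_sound0 zztn2_1_0
theorem zztn2_t {G Ω : Type*} [Group G] [MulAction G Ω] {g : ℕ → G} {pt : ℕ → Ω}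
    (M : Md g pt P 24 9 B 190080) : TrO (gen (wds g zzth_W) zztl5.K) (wds g zzc_W) (wds g zztn1y22_W) 1 pt 24 (zztl5.Pt 0) (fun _ => nat_lit 1) :=
  node M (zzt_S5 M) (zzth_act M) (zzc_act M) (zztn1y22_act M) zztn2 ((zztr2k_act M).mono (by decide)) (fun _ _ => trivial) zztn2_0 zztn2_1 (List.forall_mem_nil _)
theorem zztr2 {G Ω : Type*} [Group G] [MulAction G Ω] {g : ℕ → G} {pt : ℕ → Ω}
    (M : Md g pt P 24 9 B 190080) : Ref (gen (wds g zzth_W) (topK [zztl5])) (wds g zzc_W) (wds g zztn1y22_W) 1 :=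
  (zztn2_t M).ref
theorem zztn1_1 : ∀ i < 4, (zztn1.ent P zzth_P zzc_P zzc_P zze_P (nat_lit 9) (nat_lit 1) B zztl4 [zztl5] (memO zzc4)) i = 0 := allZ_sound0 zztn1_1_0
theorem zztn1_t {G Ω : Type*} [Group G] [MulAction G Ω] {g : ℕ → G} {pt : ℕ → Ω}
    (M : Md g pt P 24 9 B 190080) : TrO (gen (wds g zzth_W) zztl4.K) (wds g zzc_W) (wds g zzc_W) 1 pt 24 (zztl4.Pt 0) (memO zzc4) :=
  node M (zzt_S4 M) (zzth_act M) (zzc_act M) (zzc_act M) zztn1 ((zze_act M).mono (by decide)) (fun _ _ => trivial) zztn1_0 zztn1_1 (List.forall_mem_cons.2 ⟨zztr2 M, List.forall_mem_nil _⟩)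
theorem zzc2_e : ∀ i < 5, (dent zzc2 zze_P (nat_lit 24)) i = 0 := allZ_sound0 zzc2_e_0
theorem zzc2_ok : DOK zzc2 zze_P 24 := ⟨zzc2_h, zzc2_e⟩
theorem zztn3_1 : ∀ i < 10, (zztn3.ent P zzth_P zzc_P zzc_P zze_P (nat_lit 9) (nat_lit 1) B zztl2 [zztl3, zztl4, zztl5] (memO zzc2)) i = 0 := allZ_sound0 zztn3_1_0
theorem zztn3_t {G Ω : Type*} [Group G] [MulAction G Ω] {g : ℕ → G} {pt : ℕ → Ω}
    (M : Md g pt P 24 9 B 190080) : TrO (gen (wds g zzth_W) zztl2.K) (wds g zzc_W) (wds g zzc_W) 1 pt 24 (zztl2.Pt 0) (memO zzc2) :=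
  node M (zzt_S2 M) (zzth_act M) (zzc_act M) (zzc_act M) zztn3 ((zze_act M).mono (by decide)) (fun _ _ => trivial) zztn3_0 zztn3_1 (List.forall_mem_nil _)
theorem zzc0_e : ∀ i < 15, (dent zzc0 zze_P (nat_lit 24)) i = 0 := allZ_sound0 zzc0_e_0
theorem zzc0_ok : DOK zzc0 zze_P 24 := ⟨zzc0_h, zzc0_e⟩
theorem zztn4_1 : ∀ i < 24, (zztn4.ent P zzth_P zzc_P zzc_P zze_P (nat_lit 9) (nat_lit 1) B zztl0 [zztl1, zztl2, zztl3, zztl4, zztl5] (memO zzc0)) i = 0 := allZ_sound0 zztn4_1_0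
theorem zztn4_t {G Ω : Type*} [Group G] [MulAction G Ω] {g : ℕ → G} {pt : ℕ → Ω}
    (M : Md g pt P 24 9 B 190080) : TrO (gen (wds g zzth_W) zztl0.K) (wds g zzc_W) (wds g zzc_W) 1 pt 24 (zztl0.Pt 0) (memO zzc0) :=
  node M (zzt_S0 M) (zzth_act M) (zzc_act M) (zzc_act M) zztn4 ((zze_act M).mono (by decide)) (fun _ _ => trivial) zztn4_0 zztn4_1 (List.forall_mem_nil _)
theorem zz {G Ω : Type*} [Group G] [MulAction G Ω] {g : ℕ → G} {pt : ℕ → Ω}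
    (M : Md g pt P 24 9 B 190080) : Cen ⊤ (wds g zzc_W) 1 (wds g zze_W) pt 24 [zzc0, zzc2, zzc4, zzc5] :=
  (zzt_S0 M).top ▸ Cen.lev M (zzt_S0 M) (Cen.triv (zzt_S1 M) (Cen.lev M (zzt_S2 M) (Cen.triv (zzt_S3 M) (Cen.lev M (zzt_S4 M) (Cen.lev M (zzt_S5 M) (Cen.bot) (zztn0_t M) (zzc_act M) (zze_act M) (fun _ _ => trivial) zzc5_ok zz_f5) (zztn1_t M) (zzc_act M) (zze_act M) (fun _ _ => trivial) zzc4_ok zz_f4) (forced (zzt_S3 M) (zzth_act M) (zzc_act M) _ _ zz_f3)) (zztn3_t M) (zzc_act M) (zze_act M) (fun _ _ => trivial) zzc2_ok zz_f2) (forced (zzt_S1 M) (zzth_act M) (zzc_act M) _ _ zz_f1)) (zztn4_t M) (zzc_act M) (zze_act M) (fun _ _ => trivial) zzc0_ok zz_f0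
theorem zz_card {G Ω : Type*} [Group G] [MulAction G Ω] {g : ℕ → G} {pt : ℕ → Ω}
    (M : Md g pt P 24 9 B 190080) : Nat.card (Subgroup.centralizer {(wds g zzc_W) 0}) = 384 :=
  (zz M).card_cent1 M.inj zz_c.1
theorem zz_eq {G Ω : Type*} [Group G] [MulAction G Ω] {g : ℕ → G} {pt : ℕ → Ω}
    (M : Md g pt P 24 9 B 190080) : Subgroup.centralizer (gen (wds g zzc_W) 1) = gen (wds g zze_W) 5 ∧ Nat.card (gen (wds g zze_W) 5) = 384 :=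
  zz_c.1 ▸ zz_c.2 ▸ ⟨(zz M).cent, (zz M).card M.inj⟩
theorem zz2 : ∀ k < 40, ∀ i < 24, (matEnt (wdsP P zzW) zzP) k i = 0 := allZ2_sound zz2_a
theorem zz3 : ∀ k < 40, ∀ i < 384, (tupEnt zzP zzT zzR (nat_lit 24) (nat_lit 384) (nat_lit 5)) k i = 0 := allZ2_sound zz3_a
theorem zz4 : ∀ i < 384, (zzD.ent zzP zzT 5) i = 0 := allZ_sound0 zz4_0
theorem zz6 : ∀ i < 5, (leEnt zzP zze_P 40 B zzL) i = 0 := allZ_sound0 zz6_0
noncomputable abbrev zze {G : Type*} [Group G] (g : ℕ → G) : ℕ → G := zzD.e (wds g zzW)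
theorem zz_x {G Ω : Type*} [Group G] [MulAction G Ω] {g : ℕ → G} {pt : ℕ → Ω} (M : Md g pt P 24 9 B 190080) : Act (wds g zzW) pt zzP 24 40 := act_mat (M.wact zz1) zz2
theorem zz_a {G Ω : Type*} [Group G] [MulAction G Ω] {g : ℕ → G} {pt : ℕ → Ω} (M : Md g pt P 24 9 B 190080) : Act (zze g) pt (zzD.P zzP) 24 384 := act_e (d := zzD) (zz_x M) zz5.1
theorem zz_tb {G Ω : Type*} [Group G] [MulAction G Ω] {g : ℕ → G} {pt : ℕ → Ω} (M : Md g pt P 24 9 B 190080) : Tb zzD (zze g) ∧ ∀ v, v ∈ C[zze g 1] ↔ ∃ t < 384, zze g t = v :=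
  have := M.fin
  have h := ceq ((mdb M).ext (rp_let (zz_a M) (by decide : 1 < 384)) (rp_let (zzc_act M) one_pos) zz9) (zz_eq M) rfl
  tb_of (d := zzD) (mdb M) (zz_x M) zz3 zz4 zz5 (le_antisymm (h.1.le.trans ((mdb M).le (zz_x M) (zze_act M) zz6))
    (((mdb M).cm1 (zz_x M) (zzc_act M) zz7).trans ((cent_gen1 _).symm.trans ((zz_eq M).1.trans h.1.symm)).le)) (h.1 ▸ h.2)
theorem zz_in {G Ω : Type*} [Group G] [MulAction G Ω] {g : ℕ → G} {pt : ℕ → Ω} (M : Md g pt P 24 9 B 190080) (i : (gen g 8).index = 2) {t : ℕ} (l : t < 384) : zze g t ∈ gen g 8 ↔ t < 192 :=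
  half_iff (d := zzD) (h := 12) i (fun k hk => (par M i (zz8 k hk).1).trans (zz8 k hk).2) zz5.1 l
theorem aac_act {G Ω : Type*} [Group G] [MulAction G Ω] {g : ℕ → G} {pt : ℕ → Ω}
    (M : Md g pt P 24 9 B 190080) : Act (wds g aac_W) pt aac_P 24 1 :=
  M.wact aac_lt
theorem aath_act {G Ω : Type*} [Group G] [MulAction G Ω] {g : ℕ → G} {pt : ℕ → Ω}
    (M : Md g pt P 24 9 B 190080) : Act (wds g aath_W) pt aath_P 24 10 :=
  M.wact aath_lt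
theorem aatl0_e : ∀ i < 23, (dent aatl0 aath_P (nat_lit 24)) i = 0 := allZ_sound0 aatl0_e_0
theorem aatl0_ok : DOK aatl0 aath_P 24 := ⟨aatl0_h, aatl0_e⟩
theorem aatl1_e : ∀ i < 10, (dent aatl1 aath_P (nat_lit 24)) i = 0 := allZ_sound0 aatl1_e_0
theorem aatl1_ok : DOK aatl1 aath_P 24 := ⟨aatl1_h, aatl1_e⟩
theorem aatl2_e : ∀ i < 9, (dent aatl2 aath_P (nat_lit 24)) i = 0 := allZ_sound0 aatl2_e_0
theorem aatl2_ok : DOK aatl2 aath_P 24 := ⟨aatl2_h, aatl2_e⟩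
theorem aatl3_e : ∀ i < 8, (dent aatl3 aath_P (nat_lit 24)) i = 0 := allZ_sound0 aatl3_e_0
theorem aatl3_ok : DOK aatl3 aath_P 24 := ⟨aatl3_h, aatl3_e⟩
theorem aatl4_e : ∀ i < 3, (dent aatl4 aath_P (nat_lit 24)) i = 0 := allZ_sound0 aatl4_e_0
theorem aatl4_ok : DOK aatl4 aath_P 24 := ⟨aatl4_h, aatl4_e⟩
theorem aatl5_e : ∀ i < 1, (dent aatl5 aath_P (nat_lit 24)) i = 0 := allZ_sound0 aatl5_e_0
theorem aatl5_ok : DOK aatl5 aath_P 24 := ⟨aatl5_h, aatl5_e⟩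
theorem aat_low {G Ω : Type*} [Group G] [MulAction G Ω] {g : ℕ → G} {pt : ℕ → Ω}
    (M : Md g pt P 24 9 B 190080) : SLow (gi (wds g aath_W)) pt 24 [aatl0, aatl1, aatl2, aatl3, aatl4, aatl5] :=
  ((((((SLow.nil).cons aatl5_ok (aath_act M) aat_f5).cons aatl4_ok (aath_act M) aat_f4).cons aatl3_ok (aath_act M) aat_f3).cons aatl2_ok (aath_act M) aat_f2).cons aatl1_ok (aath_act M) aat_f1).cons aatl0_ok (aath_act M) aat_f0
theorem aat_S0 {G Ω : Type*} [Group G] [MulAction G Ω] {g : ℕ → G} {pt : ℕ → Ω}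
    (M : Md g pt P 24 9 B 190080) : Stage ⊤ (wds g aath_W) pt 24 [aatl0, aatl1, aatl2, aatl3, aatl4, aatl5] [] :=
  M.stage (aat_low M) aat_c
theorem aat_S1 {G Ω : Type*} [Group G] [MulAction G Ω] {g : ℕ → G} {pt : ℕ → Ω}
    (M : Md g pt P 24 9 B 190080) : Stage ⊤ (wds g aath_W) pt 24 [aatl1, aatl2, aatl3, aatl4, aatl5] [aatl0.Pt 0] :=
  (aat_S0 M).next
theorem aat_S2 {G Ω : Type*} [Group G] [MulAction G Ω] {g : ℕ → G} {pt : ℕ → Ω}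
    (M : Md g pt P 24 9 B 190080) : Stage ⊤ (wds g aath_W) pt 24 [aatl2, aatl3, aatl4, aatl5] [aatl1.Pt 0, aatl0.Pt 0] :=
  (aat_S1 M).next
theorem aat_S3 {G Ω : Type*} [Group G] [MulAction G Ω] {g : ℕ → G} {pt : ℕ → Ω}
    (M : Md g pt P 24 9 B 190080) : Stage ⊤ (wds g aath_W) pt 24 [aatl3, aatl4, aatl5] [aatl2.Pt 0, aatl1.Pt 0, aatl0.Pt 0] :=
  (aat_S2 M).next
theorem aat_S4 {G Ω : Type*} [Group G] [MulAction G Ω] {g : ℕ → G} {pt : ℕ → Ω}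
    (M : Md g pt P 24 9 B 190080) : Stage ⊤ (wds g aath_W) pt 24 [aatl4, aatl5] [aatl3.Pt 0, aatl2.Pt 0, aatl1.Pt 0, aatl0.Pt 0] :=
  (aat_S3 M).next
theorem aat_S5 {G Ω : Type*} [Group G] [MulAction G Ω] {g : ℕ → G} {pt : ℕ → Ω}
    (M : Md g pt P 24 9 B 190080) : Stage ⊤ (wds g aath_W) pt 24 [aatl5] [aatl4.Pt 0, aatl3.Pt 0, aatl2.Pt 0, aatl1.Pt 0, aatl0.Pt 0] :=
  (aat_S4 M).next
theorem aat_S6 {G Ω : Type*} [Group G] [MulAction G Ω] {g : ℕ → G} {pt : ℕ → Ω}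
    (M : Md g pt P 24 9 B 190080) : Stage ⊤ (wds g aath_W) pt 24 [] [aatl5.Pt 0, aatl4.Pt 0, aatl3.Pt 0, aatl2.Pt 0, aatl1.Pt 0, aatl0.Pt 0] :=
  (aat_S5 M).next
theorem aae_act {G Ω : Type*} [Group G] [MulAction G Ω] {g : ℕ → G} {pt : ℕ → Ω}
    (M : Md g pt P 24 9 B 190080) : Act (wds g aae_W) pt aae_P 24 5 :=
  M.wact aae_lt
theorem aac5_e : ∀ i < 1, (dent aac5 aae_P (nat_lit 24)) i = 0 := allZ_sound0 aac5_e_0
theorem aac5_ok : DOK aac5 aae_P 24 := ⟨aac5_h, aac5_e⟩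
theorem aatn0_1 : ∀ i < 2, (aatn0.ent P aath_P aac_P aac_P aae_P (nat_lit 9) (nat_lit 1) B aatl5 [] (memO aac5)) i = 0 := allZ_sound0 aatn0_1_0
theorem aatn0_t {G Ω : Type*} [Group G] [MulAction G Ω] {g : ℕ → G} {pt : ℕ → Ω}
    (M : Md g pt P 24 9 B 190080) : TrO (gen (wds g aath_W) aatl5.K) (wds g aac_W) (wds g aac_W) 1 pt 24 (aatl5.Pt 0) (memO aac5) :=
  node M (aat_S5 M) (aath_act M) (aac_act M) (aac_act M) aatn0 ((aae_act M).mono (by decide)) (fun _ _ => trivial) aatn0_0 aatn0_1 (List.forall_mem_nil _)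
theorem aac4_e : ∀ i < 1, (dent aac4 aae_P (nat_lit 24)) i = 0 := allZ_sound0 aac4_e_0
theorem aac4_ok : DOK aac4 aae_P 24 := ⟨aac4_h, aac4_e⟩
theorem aatn1y17_act {G Ω : Type*} [Group G] [MulAction G Ω] {g : ℕ → G} {pt : ℕ → Ω}
    (M : Md g pt P 24 9 B 190080) : Act (wds g aatn1y17_W) pt aatn1y17_P 24 1 :=
  M.wact aatn1y17_lt
theorem aatr2k_act {G Ω : Type*} [Group G] [MulAction G Ω] {g : ℕ → G} {pt : ℕ → Ω}
    (M : Md g pt P 24 9 B 190080) : Act (wds g aatr2k_W) pt aatr2k_P 24 2 :=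
  M.wact aatr2k_lt
theorem aatn2_1 : ∀ i < 2, (aatn2.ent P aath_P aac_P aatn1y17_P aatr2k_P (nat_lit 9) (nat_lit 1) B aatl5 [] (fun _ => nat_lit 1)) i = 0 := allZ_sound0 aatn2_1_0
theorem aatn2_t {G Ω : Type*} [Group G] [MulAction G Ω] {g : ℕ → G} {pt : ℕ → Ω}
    (M : Md g pt P 24 9 B 190080) : TrO (gen (wds g aath_W) aatl5.K) (wds g aac_W) (wds g aatn1y17_W) 1 pt 24 (aatl5.Pt 0) (fun _ => nat_lit 1) :=
  node M (aat_S5 M) (aath_act M) (aac_act M) (aatn1y17_act M) aatn2 ((aatr2k_act M).mono (by decide)) (fun _ _ => trivial) aatn2_0 aatn2_1 (List.forall_mem_nil _)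
theorem aatr2 {G Ω : Type*} [Group G] [MulAction G Ω] {g : ℕ → G} {pt : ℕ → Ω}
    (M : Md g pt P 24 9 B 190080) : Ref (gen (wds g aath_W) (topK [aatl5])) (wds g aac_W) (wds g aatn1y17_W) 1 :=
  (aatn2_t M).ref
theorem aatn1_1 : ∀ i < 4, (aatn1.ent P aath_P aac_P aac_P aae_P (nat_lit 9) (nat_lit 1) B aatl4 [aatl5] (memO aac4)) i = 0 := allZ_sound0 aatn1_1_0
theorem aatn1_t {G Ω : Type*} [Group G] [MulAction G Ω] {g : ℕ → G} {pt : ℕ → Ω}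
    (M : Md g pt P 24 9 B 190080) : TrO (gen (wds g aath_W) aatl4.K) (wds g aac_W) (wds g aac_W) 1 pt 24 (aatl4.Pt 0) (memO aac4) :=
  node M (aat_S4 M) (aath_act M) (aac_act M) (aac_act M) aatn1 ((aae_act M).mono (by decide)) (fun _ _ => trivial) aatn1_0 aatn1_1 (List.forall_mem_cons.2 ⟨aatr2 M, List.forall_mem_nil _⟩)
theorem aac2_e : ∀ i < 4, (dent aac2 aae_P (nat_lit 24)) i = 0 := allZ_sound0 aac2_e_0
theorem aac2_ok : DOK aac2 aae_P 24 := ⟨aac2_h, aac2_e⟩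
theorem aatn3y4_act {G Ω : Type*} [Group G] [MulAction G Ω] {g : ℕ → G} {pt : ℕ → Ω}
    (M : Md g pt P 24 9 B 190080) : Act (wds g aatn3y4_W) pt aatn3y4_P 24 1 :=
  M.wact aatn3y4_lt
theorem aatr4k_act {G Ω : Type*} [Group G] [MulAction G Ω] {g : ℕ → G} {pt : ℕ → Ω}
    (M : Md g pt P 24 9 B 190080) : Act (wds g aatr4k_W) pt aatr4k_P 24 2 :=
  M.wact aatr4k_lt
theorem aatn4_1 : ∀ i < 4, (aatn4.ent P aath_P aac_P aatn3y4_P aatr4k_P (nat_lit 9) (nat_lit 1) B aatl4 [aatl5] (fun _ => nat_lit 1)) i = 0 := allZ_sound0 aatn4_1_0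
theorem aatn4_t {G Ω : Type*} [Group G] [MulAction G Ω] {g : ℕ → G} {pt : ℕ → Ω}
    (M : Md g pt P 24 9 B 190080) : TrO (gen (wds g aath_W) aatl4.K) (wds g aac_W) (wds g aatn3y4_W) 1 pt 24 (aatl4.Pt 0) (fun _ => nat_lit 1) :=
  node M (aat_S4 M) (aath_act M) (aac_act M) (aatn3y4_act M) aatn4 ((aatr4k_act M).mono (by decide)) (fun _ _ => trivial) aatn4_0 aatn4_1 (List.forall_mem_nil _)
theorem aatr4 {G Ω : Type*} [Group G] [MulAction G Ω] {g : ℕ → G} {pt : ℕ → Ω}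
    (M : Md g pt P 24 9 B 190080) : Ref (gen (wds g aath_W) (topK [aatl4, aatl5])) (wds g aac_W) (wds g aatn3y4_W) 1 :=
  (aatn4_t M).ref
theorem aatn3_1 : ∀ i < 10, (aatn3.ent P aath_P aac_P aac_P aae_P (nat_lit 9) (nat_lit 1) B aatl2 [aatl3, aatl4, aatl5] (memO aac2)) i = 0 := allZ_sound0 aatn3_1_0
theorem aatn3_t {G Ω : Type*} [Group G] [MulAction G Ω] {g : ℕ → G} {pt : ℕ → Ω}
    (M : Md g pt P 24 9 B 190080) : TrO (gen (wds g aath_W) aatl2.K) (wds g aac_W) (wds g aac_W) 1 pt 24 (aatl2.Pt 0) (memO aac2) :=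
  node M (aat_S2 M) (aath_act M) (aac_act M) (aac_act M) aatn3 ((aae_act M).mono (by decide)) (fun _ _ => trivial) aatn3_0 aatn3_1 (List.forall_mem_cons.2 ⟨aatr4 M, List.forall_mem_nil _⟩)
theorem aac0_e : ∀ i < 23, (dent aac0 aae_P (nat_lit 24)) i = 0 := allZ_sound0 aac0_e_0
theorem aac0_ok : DOK aac0 aae_P 24 := ⟨aac0_h, aac0_e⟩
theorem aatn5_1 : ∀ i < 24, (aatn5.ent P aath_P aac_P aac_P aae_P (nat_lit 9) (nat_lit 1) B aatl0 [aatl1, aatl2, aatl3, aatl4, aatl5] (memO aac0)) i = 0 := allZ_sound0 aatn5_1_0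
theorem aatn5_t {G Ω : Type*} [Group G] [MulAction G Ω] {g : ℕ → G} {pt : ℕ → Ω}
    (M : Md g pt P 24 9 B 190080) : TrO (gen (wds g aath_W) aatl0.K) (wds g aac_W) (wds g aac_W) 1 pt 24 (aatl0.Pt 0) (memO aac0) :=
  node M (aat_S0 M) (aath_act M) (aac_act M) (aac_act M) aatn5 ((aae_act M).mono (by decide)) (fun _ _ => trivial) aatn5_0 aatn5_1 (List.forall_mem_nil _)
theorem aa {G Ω : Type*} [Group G] [MulAction G Ω] {g : ℕ → G} {pt : ℕ → Ω}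
    (M : Md g pt P 24 9 B 190080) : Cen ⊤ (wds g aac_W) 1 (wds g aae_W) pt 24 [aac0, aac2, aac4, aac5] :=
  (aat_S0 M).top ▸ Cen.lev M (aat_S0 M) (Cen.triv (aat_S1 M) (Cen.lev M (aat_S2 M) (Cen.triv (aat_S3 M) (Cen.lev M (aat_S4 M) (Cen.lev M (aat_S5 M) (Cen.bot) (aatn0_t M) (aac_act M) (aae_act M) (fun _ _ => trivial) aac5_ok aa_f5) (aatn1_t M) (aac_act M) (aae_act M) (fun _ _ => trivial) aac4_ok aa_f4) (forced (aat_S3 M) (aath_act M) (aac_act M) _ _ aa_f3)) (aatn3_t M) (aac_act M) (aae_act M) (fun _ _ => trivial) aac2_ok aa_f2) (forced (aat_S1 M) (aath_act M) (aac_act M) _ _ aa_f1)) (aatn5_t M) (aac_act M) (aae_act M) (fun _ _ => trivial) aac0_ok aa_f0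
theorem aa_card {G Ω : Type*} [Group G] [MulAction G Ω] {g : ℕ → G} {pt : ℕ → Ω}
    (M : Md g pt P 24 9 B 190080) : Nat.card (Subgroup.centralizer {(wds g aac_W) 0}) = 480 :=
  (aa M).card_cent1 M.inj aa_c.1
theorem aa_eq {G Ω : Type*} [Group G] [MulAction G Ω] {g : ℕ → G} {pt : ℕ → Ω}
    (M : Md g pt P 24 9 B 190080) : Subgroup.centralizer (gen (wds g aac_W) 1) = gen (wds g aae_W) 5 ∧ Nat.card (gen (wds g aae_W) 5) = 480 :=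
  aa_c.1 ▸ aa_c.2 ▸ ⟨(aa M).cent, (aa M).card M.inj⟩
theorem aa2 : ∀ k < 52, ∀ i < 24, (matEnt (wdsP P aaW) aaP) k i = 0 := allZ2_sound aa2_a
theorem aa3 : ∀ k < 52, ∀ i < 480, (tupEnt aaP aaT aaR (nat_lit 24) (nat_lit 480) (nat_lit 5)) k i = 0 := allZ2_sound aa3_a
theorem aa4 : ∀ i < 480, (aaD.ent aaP aaT 5) i = 0 := allZ_sound0 aa4_0
theorem aa6 : ∀ i < 5, (leEnt aaP aae_P 52 B aaL) i = 0 := allZ_sound0 aa6_0
noncomputable abbrev aae {G : Type*} [Group G] (g : ℕ → G) : ℕ → G := aaD.e (wds g aaW)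
theorem aa_x {G Ω : Type*} [Group G] [MulAction G Ω] {g : ℕ → G} {pt : ℕ → Ω} (M : Md g pt P 24 9 B 190080) : Act (wds g aaW) pt aaP 24 52 := act_mat (M.wact aa1) aa2
theorem aa_a {G Ω : Type*} [Group G] [MulAction G Ω] {g : ℕ → G} {pt : ℕ → Ω} (M : Md g pt P 24 9 B 190080) : Act (aae g) pt (aaD.P aaP) 24 480 := act_e (d := aaD) (aa_x M) aa5.1
theorem aa_tb {G Ω : Type*} [Group G] [MulAction G Ω] {g : ℕ → G} {pt : ℕ → Ω} (M : Md g pt P 24 9 B 190080) : Tb aaD (aae g) ∧ ∀ v, v ∈ C[aae g 60] ↔ ∃ t < 480, aae g t = v :=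
  have := M.fin
  have h := ceq ((mdb M).ext (rp_let (aa_a M) (by decide : 60 < 480)) (rp_let (aac_act M) one_pos) aa9) (aa_eq M) rfl
  tb_of (d := aaD) (mdb M) (aa_x M) aa3 aa4 aa5 (le_antisymm (h.1.le.trans ((mdb M).le (aa_x M) (aae_act M) aa6))
    (((mdb M).cm1 (aa_x M) (aac_act M) aa7).trans ((cent_gen1 _).symm.trans ((aa_eq M).1.trans h.1.symm)).le)) (h.1 ▸ h.2)
theorem aa_in {G Ω : Type*} [Group G] [MulAction G Ω] {g : ℕ → G} {pt : ℕ → Ω} (M : Md g pt P 24 9 B 190080) (i : (gen g 8).index = 2) {t : ℕ} (l : t < 480) : aae g t ∈ gen g 8 ↔ t < 240 :=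
  half_iff (d := aaD) (h := 20) i (fun k hk => (par M i (aa8 k hk).1).trans (aa8 k hk).2) aa5.1 l
theorem ccx_act {G Ω : Type*} [Group G] [MulAction G Ω] {g : ℕ → G} {pt : ℕ → Ω}
    (M : Md g pt P 24 9 B 190080) : Act (wds g ccx_W) pt ccx_P 24 1 :=
  M.wact ccx_lt
theorem ccth_act {G Ω : Type*} [Group G] [MulAction G Ω] {g : ℕ → G} {pt : ℕ → Ω}
    (M : Md g pt P 24 9 B 190080) : Act (wds g ccth_W) pt ccth_P 24 13 :=
  M.wact ccth_lt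
theorem cctl0_e : ∀ i < 23, (dent cctl0 ccth_P (nat_lit 24)) i = 0 := allZ_sound0 cctl0_e_0
theorem cctl0_ok : DOK cctl0 ccth_P 24 := ⟨cctl0_h, cctl0_e⟩
theorem cctl1_e : ∀ i < 11, (dent cctl1 ccth_P (nat_lit 24)) i = 0 := allZ_sound0 cctl1_e_0
theorem cctl1_ok : DOK cctl1 ccth_P 24 := ⟨cctl1_h, cctl1_e⟩
theorem cctl2_e : ∀ i < 10, (dent cctl2 ccth_P (nat_lit 24)) i = 0 := allZ_sound0 cctl2_e_0
theorem cctl2_ok : DOK cctl2 ccth_P 24 := ⟨cctl2_h, cctl2_e⟩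
theorem cctl3_e : ∀ i < 5, (dent cctl3 ccth_P (nat_lit 24)) i = 0 := allZ_sound0 cctl3_e_0
theorem cctl3_ok : DOK cctl3 ccth_P 24 := ⟨cctl3_h, cctl3_e⟩
theorem cctl4_e : ∀ i < 4, (dent cctl4 ccth_P (nat_lit 24)) i = 0 := allZ_sound0 cctl4_e_0
theorem cctl4_ok : DOK cctl4 ccth_P 24 := ⟨cctl4_h, cctl4_e⟩
theorem cctl5_e : ∀ i < 1, (dent cctl5 ccth_P (nat_lit 24)) i = 0 := allZ_sound0 cctl5_e_0
theorem cctl5_ok : DOK cctl5 ccth_P 24 := ⟨cctl5_h, cctl5_e⟩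
theorem cct_low {G Ω : Type*} [Group G] [MulAction G Ω] {g : ℕ → G} {pt : ℕ → Ω}
    (M : Md g pt P 24 9 B 190080) : SLow (gi (wds g ccth_W)) pt 24 [cctl0, cctl1, cctl2, cctl3, cctl4, cctl5] :=
  ((((((SLow.nil).cons cctl5_ok (ccth_act M) cct_f5).cons cctl4_ok (ccth_act M) cct_f4).cons cctl3_ok (ccth_act M) cct_f3).cons cctl2_ok (ccth_act M) cct_f2).cons cctl1_ok (ccth_act M) cct_f1).cons cctl0_ok (ccth_act M) cct_f0
theorem cct_S0 {G Ω : Type*} [Group G] [MulAction G Ω] {g : ℕ → G} {pt : ℕ → Ω}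
    (M : Md g pt P 24 9 B 190080) : Stage ⊤ (wds g ccth_W) pt 24 [cctl0, cctl1, cctl2, cctl3, cctl4, cctl5] [] :=
  M.stage (cct_low M) cct_c
theorem cct_S1 {G Ω : Type*} [Group G] [MulAction G Ω] {g : ℕ → G} {pt : ℕ → Ω}
    (M : Md g pt P 24 9 B 190080) : Stage ⊤ (wds g ccth_W) pt 24 [cctl1, cctl2, cctl3, cctl4, cctl5] [cctl0.Pt 0] :=
  (cct_S0 M).next
theorem cct_S2 {G Ω : Type*} [Group G] [MulAction G Ω] {g : ℕ → G} {pt : ℕ → Ω}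
    (M : Md g pt P 24 9 B 190080) : Stage ⊤ (wds g ccth_W) pt 24 [cctl2, cctl3, cctl4, cctl5] [cctl1.Pt 0, cctl0.Pt 0] :=
  (cct_S1 M).next
theorem cct_S3 {G Ω : Type*} [Group G] [MulAction G Ω] {g : ℕ → G} {pt : ℕ → Ω}
    (M : Md g pt P 24 9 B 190080) : Stage ⊤ (wds g ccth_W) pt 24 [cctl3, cctl4, cctl5] [cctl2.Pt 0, cctl1.Pt 0, cctl0.Pt 0] :=
  (cct_S2 M).next
theorem cct_S4 {G Ω : Type*} [Group G] [MulAction G Ω] {g : ℕ → G} {pt : ℕ → Ω}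
    (M : Md g pt P 24 9 B 190080) : Stage ⊤ (wds g ccth_W) pt 24 [cctl4, cctl5] [cctl3.Pt 0, cctl2.Pt 0, cctl1.Pt 0, cctl0.Pt 0] :=
  (cct_S3 M).next
theorem cct_S5 {G Ω : Type*} [Group G] [MulAction G Ω] {g : ℕ → G} {pt : ℕ → Ω}
    (M : Md g pt P 24 9 B 190080) : Stage ⊤ (wds g ccth_W) pt 24 [cctl5] [cctl4.Pt 0, cctl3.Pt 0, cctl2.Pt 0, cctl1.Pt 0, cctl0.Pt 0] :=
  (cct_S4 M).next
theorem cct_S6 {G Ω : Type*} [Group G] [MulAction G Ω] {g : ℕ → G} {pt : ℕ → Ω}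
    (M : Md g pt P 24 9 B 190080) : Stage ⊤ (wds g ccth_W) pt 24 [] [cctl5.Pt 0, cctl4.Pt 0, cctl3.Pt 0, cctl2.Pt 0, cctl1.Pt 0, cctl0.Pt 0] :=
  (cct_S5 M).next
theorem cce_act {G Ω : Type*} [Group G] [MulAction G Ω] {g : ℕ → G} {pt : ℕ → Ω}
    (M : Md g pt P 24 9 B 190080) : Act (wds g cce_W) pt cce_P 24 5 :=
  M.wact cce_lt
theorem ccc5_e : ∀ i < 1, (dent ccc5 cce_P (nat_lit 24)) i = 0 := allZ_sound0 ccc5_e_0
theorem ccc5_ok : DOK ccc5 cce_P 24 := ⟨ccc5_h, ccc5_e⟩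
theorem cctn0_1 : ∀ i < 2, (cctn0.ent P ccth_P ccx_P ccx_P cce_P (nat_lit 9) (nat_lit 1) B cctl5 [] (memO ccc5)) i = 0 := allZ_sound0 cctn0_1_0
theorem cctn0_t {G Ω : Type*} [Group G] [MulAction G Ω] {g : ℕ → G} {pt : ℕ → Ω}
    (M : Md g pt P 24 9 B 190080) : TrO (gen (wds g ccth_W) cctl5.K) (wds g ccx_W) (wds g ccx_W) 1 pt 24 (cctl5.Pt 0) (memO ccc5) :=
  node M (cct_S5 M) (ccth_act M) (ccx_act M) (ccx_act M) cctn0 ((cce_act M).mono (by decide)) (fun _ _ => trivial) cctn0_0 cctn0_1 (List.forall_mem_nil _)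
theorem ccc4_e : ∀ i < 4, (dent ccc4 cce_P (nat_lit 24)) i = 0 := allZ_sound0 ccc4_e_0
theorem ccc4_ok : DOK ccc4 cce_P 24 := ⟨ccc4_h, ccc4_e⟩
theorem cctn1_1 : ∀ i < 5, (cctn1.ent P ccth_P ccx_P ccx_P cce_P (nat_lit 9) (nat_lit 1) B cctl4 [cctl5] (memO ccc4)) i = 0 := allZ_sound0 cctn1_1_0
theorem cctn1_t {G Ω : Type*} [Group G] [MulAction G Ω] {g : ℕ → G} {pt : ℕ → Ω}
    (M : Md g pt P 24 9 B 190080) : TrO (gen (wds g ccth_W) cctl4.K) (wds g ccx_W) (wds g ccx_W) 1 pt 24 (cctl4.Pt 0) (memO ccc4) :=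
  node M (cct_S4 M) (ccth_act M) (ccx_act M) (ccx_act M) cctn1 ((cce_act M).mono (by decide)) (fun _ _ => trivial) cctn1_0 cctn1_1 (List.forall_mem_nil _)
theorem cctn2y13_act {G Ω : Type*} [Group G] [MulAction G Ω] {g : ℕ → G} {pt : ℕ → Ω}
    (M : Md g pt P 24 9 B 190080) : Act (wds g cctn2y13_W) pt cctn2y13_P 24 1 :=
  M.wact cctn2y13_lt
theorem cctr3k_act {G Ω : Type*} [Group G] [MulAction G Ω] {g : ℕ → G} {pt : ℕ → Ω}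
    (M : Md g pt P 24 9 B 190080) : Act (wds g cctr3k_W) pt cctr3k_P 24 2 :=
  M.wact cctr3k_lt
theorem cctn3y6_act {G Ω : Type*} [Group G] [MulAction G Ω] {g : ℕ → G} {pt : ℕ → Ω}
    (M : Md g pt P 24 9 B 190080) : Act (wds g cctn3y6_W) pt cctn3y6_P 24 1 :=
  M.wact cctn3y6_lt
theorem cctr4k_act {G Ω : Type*} [Group G] [MulAction G Ω] {g : ℕ → G} {pt : ℕ → Ω}
    (M : Md g pt P 24 9 B 190080) : Act (wds g cctr4k_W) pt cctr4k_P 24 2 :=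
  M.wact cctr4k_lt
theorem cctn4_1 : ∀ i < 2, (cctn4.ent P ccth_P ccx_P cctn3y6_P cctr4k_P (nat_lit 9) (nat_lit 1) B cctl5 [] (fun _ => nat_lit 1)) i = 0 := allZ_sound0 cctn4_1_0
theorem cctn4_t {G Ω : Type*} [Group G] [MulAction G Ω] {g : ℕ → G} {pt : ℕ → Ω}
    (M : Md g pt P 24 9 B 190080) : TrO (gen (wds g ccth_W) cctl5.K) (wds g ccx_W) (wds g cctn3y6_W) 1 pt 24 (cctl5.Pt 0) (fun _ => nat_lit 1) :=
  node M (cct_S5 M) (ccth_act M) (ccx_act M) (cctn3y6_act M) cctn4 ((cctr4k_act M).mono (by decide)) (fun _ _ => trivial) cctn4_0 cctn4_1 (List.forall_mem_nil _)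
theorem cctr4 {G Ω : Type*} [Group G] [MulAction G Ω] {g : ℕ → G} {pt : ℕ → Ω}
    (M : Md g pt P 24 9 B 190080) : Ref (gen (wds g ccth_W) (topK [cctl5])) (wds g ccx_W) (wds g cctn3y6_W) 1 :=
  (cctn4_t M).ref
theorem cctn3_1 : ∀ i < 5, (cctn3.ent P ccth_P ccx_P cctn2y13_P cctr3k_P (nat_lit 9) (nat_lit 1) B cctl4 [cctl5] (fun _ => nat_lit 1)) i = 0 := allZ_sound0 cctn3_1_0
theorem cctn3_t {G Ω : Type*} [Group G] [MulAction G Ω] {g : ℕ → G} {pt : ℕ → Ω}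
    (M : Md g pt P 24 9 B 190080) : TrO (gen (wds g ccth_W) cctl4.K) (wds g ccx_W) (wds g cctn2y13_W) 1 pt 24 (cctl4.Pt 0) (fun _ => nat_lit 1) :=
  node M (cct_S4 M) (ccth_act M) (ccx_act M) (cctn2y13_act M) cctn3 ((cctr3k_act M).mono (by decide)) (fun _ _ => trivial) cctn3_0 cctn3_1 (List.forall_mem_cons.2 ⟨cctr4 M, List.forall_mem_nil _⟩)
theorem cctr3 {G Ω : Type*} [Group G] [MulAction G Ω] {g : ℕ → G} {pt : ℕ → Ω}
    (M : Md g pt P 24 9 B 190080) : Ref (gen (wds g ccth_W) (topK [cctl4, cctl5])) (wds g ccx_W) (wds g cctn2y13_W) 1 :=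
  (cctn3_t M).ref
theorem cctn2_1 : ∀ i < 11, (cctn2.ent P ccth_P ccx_P ccx_P cce_P (nat_lit 9) (nat_lit 1) B cctl2 [cctl3, cctl4, cctl5] (fun w => Nat.xor w (cctl2.Pt (nat_lit 0)))) i = 0 := allZ_sound0 cctn2_1_0
theorem cctn2_t {G Ω : Type*} [Group G] [MulAction G Ω] {g : ℕ → G} {pt : ℕ → Ω}
    (M : Md g pt P 24 9 B 190080) : TrO (gen (wds g ccth_W) cctl2.K) (wds g ccx_W) (wds g ccx_W) 1 pt 24 (cctl2.Pt 0) (fun w => Nat.xor w (cctl2.Pt (nat_lit 0))) :=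
  node M (cct_S2 M) (ccth_act M) (ccx_act M) (ccx_act M) cctn2 ((cce_act M).mono (by decide)) (fun _ _ => trivial) cctn2_0 cctn2_1 (List.forall_mem_cons.2 ⟨cctr3 M, List.forall_mem_nil _⟩)
theorem ccc0_e : ∀ i < 23, (dent ccc0 cce_P (nat_lit 24)) i = 0 := allZ_sound0 ccc0_e_0
theorem ccc0_ok : DOK ccc0 cce_P 24 := ⟨ccc0_h, ccc0_e⟩
theorem cctn5_1 : ∀ i < 24, (cctn5.ent P ccth_P ccx_P ccx_P cce_P (nat_lit 9) (nat_lit 1) B cctl0 [cctl1, cctl2, cctl3, cctl4, cctl5] (memO ccc0)) i = 0 := allZ_sound0 cctn5_1_0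
theorem cctn5_t {G Ω : Type*} [Group G] [MulAction G Ω] {g : ℕ → G} {pt : ℕ → Ω}
    (M : Md g pt P 24 9 B 190080) : TrO (gen (wds g ccth_W) cctl0.K) (wds g ccx_W) (wds g ccx_W) 1 pt 24 (cctl0.Pt 0) (memO ccc0) :=
  node M (cct_S0 M) (ccth_act M) (ccx_act M) (ccx_act M) cctn5 ((cce_act M).mono (by decide)) (fun _ _ => trivial) cctn5_0 cctn5_1 (List.forall_mem_nil _)
theorem cc {G Ω : Type*} [Group G] [MulAction G Ω] {g : ℕ → G} {pt : ℕ → Ω}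
    (M : Md g pt P 24 9 B 190080) : Cen ⊤ (wds g ccx_W) 1 (wds g cce_W) pt 24 [ccc0, ccc4, ccc5] :=
  (cct_S0 M).top ▸ Cen.lev M (cct_S0 M) (Cen.triv (cct_S1 M) (Cen.triv (cct_S2 M) (Cen.triv (cct_S3 M) (Cen.lev M (cct_S4 M) (Cen.lev M (cct_S5 M) (Cen.bot) (cctn0_t M) (ccx_act M) (cce_act M) (fun _ _ => trivial) ccc5_ok cc_f5) (cctn1_t M) (ccx_act M) (cce_act M) (fun _ _ => trivial) ccc4_ok cc_f4) (forced (cct_S3 M) (ccth_act M) (ccx_act M) _ _ cc_f3)) (cctn2_t M)) (forced (cct_S1 M) (ccth_act M) (ccx_act M) _ _ cc_f1)) (cctn5_t M) (ccx_act M) (cce_act M) (fun _ _ => trivial) ccc0_ok cc_f0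
theorem cc_card {G Ω : Type*} [Group G] [MulAction G Ω] {g : ℕ → G} {pt : ℕ → Ω}
    (M : Md g pt P 24 9 B 190080) : Nat.card (Subgroup.centralizer {(wds g ccx_W) 0}) = 240 :=
  (cc M).card_cent1 M.inj cc_c.1
theorem cc_eq {G Ω : Type*} [Group G] [MulAction G Ω] {g : ℕ → G} {pt : ℕ → Ω}
    (M : Md g pt P 24 9 B 190080) : Subgroup.centralizer (gen (wds g ccx_W) 1) = gen (wds g cce_W) 5 ∧ Nat.card (gen (wds g cce_W) 5) = 240 :=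
  cc_c.1 ▸ cc_c.2 ▸ ⟨(cc M).cent, (cc M).card M.inj⟩
theorem ca {G Ω : Type*} [Group G] [MulAction G Ω] {g : ℕ → G} {pt : ℕ → Ω} (M : Md g pt P 24 9 B 190080) : C[zze g 192] ≤ C[zze g 4] :=
  have := M.fin
  (ceq ((mdb M).ext (rp_let (zz_a M) (by decide : 192 < 384)) (rp_let (ccx_act M) one_pos) cc2) (cc_eq M) rfl).1.le.trans ((mdb M).cm1 (cce_act M) (zz_a M) cc1)
theorem gk : ∀ i < 8, (leEnt (pk yP [nat_lit 4, nat_lit 16, nat_lit 8, nat_lit 96, nat_lit 32, nat_lit 869]) P 6 B gW) i = 0 := allZ_sound0 gk_0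
theorem rlg {G Ω : Type*} [Group G] [MulAction G Ω] {pt : ℕ → Ω} {z a u : ℕ → G} (S : Bm G pt 24 B) (h : Act (cat z 384 (cat a 480 u)) pt yP 24 (384 + (480 + 6))) :
    a 60 = z 4 ∧ a 120 = z 16 ∧ a 240 = z 192 ∧ a 1 = z 1 ∧ a 2 = z 2 ∧ a 4 * z 8 = z 96 * a 4 ∧ a 4 * z 96 = z 107 * a 4 ∧ u 0 * z 1 = z 1 * u 0 ∧ u 1 * z 1 = z 2 * u 1 ∧ u 2 * z 4 = z 4 * u 2 ∧ u 3 * z 1 = z 100 * u 3 ∧ u 4 * z 192 = z 192 * u 4 ∧ a 4 * z 32 = u 5 * a 4 ∧ True := S.rl h rlk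
theorem y_a {G Ω : Type*} [Group G] [MulAction G Ω] {g : ℕ → G} {pt : ℕ → Ω} (M : Md g pt P 24 9 B 190080) : Act (cat (zze g) 384 (cat (aae g) 480 (wds g uW))) pt yP 24 (384 + (480 + 6)) :=
  act_cat (zz_a M) (act_cat (aa_a M) ((M.act.mono (by decide)).wds u_lt _))
theorem gI {G Ω : Type*} [Group G] [MulAction G Ω] {g : ℕ → G} {pt : ℕ → Ω} (M : Md g pt P 24 9 B 190080) : gen g 8 ≤ gen (pk (cat (zze g) 384 (cat (aae g) 480 (wds g uW))) [4, 16, 8, 96, 32, 869]) 6 :=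
  (mdb M).le (act_pk (y_a M) (by decide +kernel)) (M.act.mono (by decide)) gk
theorem ex : ∃ (Y Ω : Type) (_ : Group Y) (_ : MulAction Y Ω) (γ : ℕ → Y) (pt : ℕ → Ω), Md γ pt P 24 9 B 190080 ∧ (gen γ 8).index = 2 ∧
    Nonempty (gen γ 8 ≃* gen H15.MM12.g 8) := by
  obtain ⟨_, g, M, -⟩ := exists_md H15.MM12.act H15.MM12.inj H15.MM12.card H15.MM12.isBase ⟨H15.MM12.Blt, by decide⟩ (.refl _)
  obtain ⟨Y, _, _, γ, M', i, e, -⟩ := md_ext M y1 y2 y3 yl_low yc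
  exact ⟨Y, _, _, _, γ, _, M', i, ⟨e⟩⟩
instance : Ok zzD := ⟨let ⟨Y, _, _, _, _, _, M, _⟩ := ex; ⟨Y, _, _, (zz_tb M).1⟩⟩
instance : Ok aaD := ⟨let ⟨Y, _, _, _, _, _, M, _⟩ := ex; ⟨Y, _, _, (aa_tb M).1⟩⟩

end H15.MT
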